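import Cfsg.Agent.Lib.Blocks.PRational.Twisted
import Cfsg.Agent.Lib.BlockRank.Major

/-!
# Twisted sections of a block
-/

set_option autoImplicit false
set_option maxHeartbeats 1000000

namespace CfsgLib.PRational

open Cfsg CfsgLib.Blocks CfsgLib.Char CfsgLib.BlockRank
open scoped ComplexConjugate Classical

universe u

variable {p : ℕ} [Fact p.Prime] {M : Ideal AlgInt} {G : Type u} [Group G] [Fintype G]

/-- The kernel of a section over a block is the kernel of the local blocks inducing it. -/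
theorem sum_section_kernel (hM : IsPModular p M) {C : Subgroup G} {x : G}
    (hC : C = Subgroup.centralizer {x}) (hx : ∃ k : ℕ, orderOf x = p ^ k) [Fintype C]
    {B : Set (IrrCharacter G)} [Fintype B] (hB : IsPBlock M B) {s t : C}
    (hs : Cfsg.IsPRegular p s) (ht : Cfsg.IsPRegular p t) :
    ∑ χ ∈ B.toFinset, (χ : G → ℂ) (x * s) * conj ((χ : G → ℂ) (x * t)) =
      ∑ φ ∈ Finset.univ.filter
          (fun φ : IrrCharacter C => Cfsg.IsInducedBlock M C (Cfsg.blockOf M (φ : C → ℂ)) B),
        (φ : C → ℂ) s * conj ((φ : C → ℂ) t) := by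
  haveI : M.IsMaximal := hM.2.1
  haveI := Fintype.ofFinite {e : Set (IrrCharacter C) // IsPBlock M e}
  let P : Set (IrrCharacter C) → Prop := fun e => Cfsg.IsInducedBlock M C e B
  let U : Set (IrrCharacter C) := {φ | P (Cfsg.blockOf M (φ : C → ℂ))}
  let β : IrrCharacter C → {e : Set (IrrCharacter C) // IsPBlock M e} := fun φ =>
    ⟨Cfsg.blockOf M (φ : C → ℂ), φ, rfl⟩
  let E : Finset {e : Set (IrrCharacter C) // IsPBlock M e} := Finset.univ.filter fun e => P e.1
  have hUsum : ∀ h : IrrCharacter C → ℂ,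
      ∑ φ ∈ U.toFinset, h φ = ∑ e ∈ E, ∑ φ ∈ e.1.toFinset, h φ := by
    intro h
    rw [← Finset.sum_fiberwise_of_maps_to (t := E) (g := β) fun φ hφ =>
      Finset.mem_filter.2 ⟨Finset.mem_univ _, (Set.mem_toFinset.1 hφ : φ ∈ U)⟩]
    refine Finset.sum_congr rfl fun e he => Finset.sum_congr ?_ fun φ _ => rfl
    ext φ
    simp only [Finset.mem_filter, Set.mem_toFinset]
    constructor
    · rintro ⟨-, h⟩
      rw [← h]
      exact CfsgLib.BlockReg.sameBlock_refl hM _
    · intro h
      have h1 := CfsgLib.BlockReg.block_eq_blockOf hM e.2 h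
      refine ⟨?_, Subtype.ext h1.symm⟩
      show P (Cfsg.blockOf M (φ : C → ℂ))
      rw [← h1]
      exact (Finset.mem_filter.1 he).2
  let f : IrrCharacter G → C → ℂ := fun χ c => (χ : G → ℂ) (x * c)
  have hsplit : ∀ χ : IrrCharacter G, ∀ y : C,
      Cfsg.blockPart U (f χ) y = ∑ e ∈ E, Cfsg.blockPart e.1 (f χ) y := by
    intro χ y
    rw [blockPart_apply, hUsum]
    exact Finset.sum_congr rfl fun e _ => (blockPart_apply _ _ _).symm
  have hzero : ∀ (χ : IrrCharacter G) (e : {e : Set (IrrCharacter C) // IsPBlock M e}) (y : C),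
      Cfsg.IsPRegular p y → (∀ B', Cfsg.IsInducedBlock M C e.1 B' → χ ∉ B') →
        Cfsg.blockPart e.1 (f χ) y = 0 := by
    intro χ e y hy hne
    subst hC
    exact Cfsg.Agent.S0923.result p M hM x hx (Cfsg.blockOf M (χ : G → ℂ)) ⟨χ, rfl⟩ χ
      (CfsgLib.BlockReg.sameBlock_refl hM _) e.1 e.2
      (fun hind => hne _ hind (CfsgLib.BlockReg.sameBlock_refl hM _)) y hy
  have hout : ∀ χ : IrrCharacter G, χ ∉ B → ∀ y : C, Cfsg.IsPRegular p y →
      Cfsg.blockPart U (f χ) y = 0 := by
    intro χ hχ y hy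
    rw [hsplit]
    refine Finset.sum_eq_zero fun e he => hzero χ e y hy fun B' hB' hχ' => hχ ?_
    rwa [CfsgLib.Blocks.IsInducedBlock.unique (Finset.mem_filter.1 he).2 hB']
  have hin : ∀ χ : IrrCharacter G, χ ∈ B → ∀ y : C, Cfsg.IsPRegular p y →
      Cfsg.blockPart U (f χ) y = f χ y := by
    intro χ hχ y hy
    rw [hsplit]
    refine Eq.trans ?_ (sum_blockPart_blocks hM (isClassFunction_translate hC χ) y).symm
    refine Finset.sum_subset (Finset.subset_univ E) fun e _ he => hzero χ e y hy ?_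
    intro B' hB' hχ'
    refine he (Finset.mem_filter.2 ⟨Finset.mem_univ _, ?_⟩)
    show Cfsg.IsInducedBlock M C e.1 B
    rwa [CfsgLib.Blocks.IsPBlock.eq_of_mem hB hB'.2.1 hχ hχ']
  have hker : ∀ s c : C, Cfsg.IsPRegular p s → ¬ Cfsg.IsPRegular p c → projKer U s c = 0 := by
    intro s c hs hc
    rw [projKer, hUsum, Finset.mul_sum]
    exact Finset.sum_eq_zero fun e _ => projKer_eq_zero hM e.2 hs hc
  calc ∑ χ ∈ B.toFinset, (χ : G → ℂ) (x * s) * conj ((χ : G → ℂ) (x * t))
      = ∑ χ : IrrCharacter G,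
          Cfsg.blockPart U (f χ) s * conj (Cfsg.blockPart U (f χ) t) := by
        refine (Finset.sum_congr rfl fun χ hχ => ?_).trans
          (Finset.sum_subset (Finset.subset_univ _) fun χ _ hχ => ?_)
        · rw [hin χ (Set.mem_toFinset.1 hχ) s hs, hin χ (Set.mem_toFinset.1 hχ) t ht]
        · rw [hout χ (fun h => hχ (Set.mem_toFinset.2 h)) s hs, zero_mul]
    _ = ∑ φ : IrrCharacter C,
          Cfsg.blockPart U (φ : C → ℂ) s * conj (Cfsg.blockPart U (φ : C → ℂ) t) := by
        rw [sum_blockPart_mul_conj_expand, sum_blockPart_mul_conj_expand]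
        refine Finset.sum_congr rfl fun c _ => Finset.sum_congr rfl fun d _ => ?_
        by_cases hc : Cfsg.IsPRegular p c
        · by_cases hd : Cfsg.IsPRegular p d
          · rw [sum_translate_mul_conj hC hx c d hc hd]
          · simp [hker t d ht hd]
        · simp [hker s c hs hc]
    _ = _ := by
        rw [Finset.sum_filter]
        refine Finset.sum_congr rfl fun φ _ => ?_
        rw [blockPart_irr, blockPart_irr]
        by_cases h : φ ∈ U
        · rw [if_pos h, if_pos h, if_pos (show Cfsg.IsInducedBlock M C _ B from h)]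
        · rw [if_neg h, zero_mul, if_neg (show ¬ Cfsg.IsInducedBlock M C _ B from h)]

/-- A twisted section sum is a natural multiple of the centralizer order. -/
theorem exists_nat_section (hM : IsPModular p M) {x : G} (hx : ∃ k : ℕ, orderOf x = p ^ k)
    {B : Set (IrrCharacter G)} (hB : IsPBlock M B) {k : ℕ} (hk : Nat.Coprime k (Nat.card G))
    (hreg : ∀ y : G, Cfsg.IsPRegular p y → y ^ k = y) :
    ∃ m : ℕ, sectionSum p (fun y : G => ∑ χ ∈ B.toFinset, (χ : G → ℂ) (y ^ k) * conj ((χ : G → ℂ) y))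
      x = (Nat.card (Subgroup.centralizer ({x} : Set G)) : ℂ) * m := by
  haveI : M.IsMaximal := hM.2.1
  set C := Subgroup.centralizer ({x} : Set G) with hC
  rw [sectionSum_eq_sum_regSet _ hC]
  have hxc : ∀ c : C, Commute x (c : G) := fun c =>
    (Subgroup.mem_centralizer_singleton_iff.1 c.2).symm
  have hpow : ∀ s : C, Cfsg.IsPRegular p s → (x * (s : G)) ^ k = x ^ k * (s : G) := by
    intro s hs
    rw [(hxc s).mul_pow, hreg (s : G) (by
      unfold Cfsg.IsPRegular at hs ⊢
      rwa [Subgroup.orderOf_coe])]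
  obtain ⟨e, he⟩ := id hx
  have hord : orderOf (x ^ k) = p ^ e := by
    rw [Nat.Coprime.orderOf_pow, he]
    exact Nat.Coprime.coprime_dvd_left (orderOf_dvd_natCard x) hk.symm
  by_cases hconj : IsConj x (x ^ k)
  · obtain ⟨g, hg⟩ := isConj_iff.1 hconj
    have hgC : ∀ c : G, c ∈ C ↔ g⁻¹ * c * g ∈ C := by
      have hmem : ∀ c : G, c ∈ C ↔ Commute c (x ^ k) := fun c => by
        rw [hC, Subgroup.mem_centralizer_singleton_iff]
        refine ⟨fun h => Commute.pow_right h k, fun h => ?_⟩
        obtain ⟨j, hj⟩ := exists_pow_eq_self_of_coprime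
          (Nat.Coprime.coprime_dvd_left (orderOf_dvd_natCard x) hk.symm).symm
        rw [← hj]
        exact h.pow_right j
      intro c
      rw [hmem, ← hg, hC, Subgroup.mem_centralizer_singleton_iff]
      constructor
      · intro h
        have := h.map (MulAut.conj g⁻¹)
        simp only [MulAut.conj_apply, inv_inv] at this
        rwa [show g⁻¹ * (g * x * g⁻¹) * g = x by group] at this
      · intro h
        have := Commute.map (h : Commute (g⁻¹ * c * g) x) (MulAut.conj g)
        simp only [MulAut.conj_apply] at this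
        rwa [show g * (g⁻¹ * c * g) * g⁻¹ = c by group] at this
    let a : C ≃* C :=
      { toFun := fun c => ⟨g⁻¹ * c * g, (hgC c).1 c.2⟩
        invFun := fun c => ⟨g * c * g⁻¹, (hgC _).2 (by
          rw [show g⁻¹ * (g * (c : G) * g⁻¹) * g = c by group]; exact c.2)⟩
        left_inv := fun c => Subtype.ext (by simp [mul_assoc])
        right_inv := fun c => Subtype.ext (by simp [mul_assoc])
        map_mul' := fun c d => Subtype.ext (by simp [mul_assoc]) }
    obtain ⟨m, hm⟩ := exists_nat_twisted hM a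
      (Finset.univ.filter
        (fun φ : IrrCharacter C => Cfsg.IsInducedBlock M C (Cfsg.blockOf M (φ : C → ℂ)) B))
      (fun φ hφ ψ hψ => by
        refine Finset.mem_filter.2 ⟨Finset.mem_univ _, ?_⟩
        rw [← CfsgLib.BlockReg.block_eq_blockOf hM (isPBlock_blockOf φ) hψ]
        exact (Finset.mem_filter.1 hφ).2)
    refine ⟨m, ?_⟩
    rw [← hm]
    conv_rhs => rw [Finset.sum_comm]
    refine Finset.sum_congr rfl fun s hs => ?_
    have hs' : Cfsg.IsPRegular p s := (Finset.mem_filter.1 hs).2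
    have has : Cfsg.IsPRegular p (a s) := by
      rw [Cfsg.IsPRegular, MulEquiv.orderOf_eq a s]
      exact hs'
    rw [← sum_section_kernel hM hC hx hB has hs']
    refine Finset.sum_congr rfl fun χ _ => ?_
    congr 1
    rw [hpow s hs', ← hg]
    show _ = (χ : G → ℂ) (x * (g⁻¹ * (s : G) * g))
    rw [← IsIrrCharacter.isClassFunction χ.2 (x * (g⁻¹ * (s : G) * g)) g]
    congr 1
    group
  · refine ⟨0, ?_⟩
    rw [Nat.cast_zero, mul_zero]
    refine Finset.sum_eq_zero fun s hs => ?_
    have hs' : ¬ p ∣ orderOf (s : G) := by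
      have := (Finset.mem_filter.1 hs).2
      rwa [Cfsg.IsPRegular, ← Subgroup.orderOf_coe] at this
    have h1 : Cfsg.IsPPart p (x ^ k * (s : G)) (x ^ k) :=
      isPPart_of_commute ((hxc s).pow_left k) hord hs'
    have h2 : Cfsg.IsPPart p (x * (s : G)) x := isPPart_of_commute (hxc s) he hs'
    have h := block_orthogonality_section (Fact.out : p.Prime) hM.2.2 hB h1 h2
      (fun h => hconj h.symm)
    rw [finsum_mem_eq_toFinset_sum] at h
    rw [hpow s (Finset.mem_filter.1 hs).2, ← h]
    refine Finset.sum_congr rfl fun χ _ => ?_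
    rw [IsIrrCharacter.apply_inv χ.2]

end CfsgLib.PRational
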