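import Cfsg.Agent.Lib.Blocks.DegreeSq.Main
import Cfsg.Agent.Lib.BlockRank.Subsection
import Cfsg.Agent.Lib.Char.Twist

/-!
# Twisted regular traces of unions of blocks are natural numbers
-/

set_option autoImplicit false
set_option maxHeartbeats 1000000
set_option synthInstance.maxHeartbeats 400000

namespace CfsgLib.PRational

open Cfsg CfsgLib.Blocks CfsgLib.Char CfsgLib.DegreeSq CfsgLib.BlockRank
open scoped ComplexConjugate Classical

universe u

variable {p : ℕ} [Fact p.Prime] {M : Ideal AlgInt} [M.IsMaximal] {G : Type u} [Group G] [Fintype G]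
  (D : IdemData (ResField M) (MonoidAlgebra (ResField M) G))

/-- A trace of a simple module only depends on the regular part. -/
theorem tr_single_pow (hM : IsPModular p M) (g : G) :
    ∃ k : ℕ, Cfsg.IsPRegular p (g ^ k) ∧ ∀ i,
      D.tr i (MonoidAlgebra.single g 1) = D.tr i (MonoidAlgebra.single (g ^ k) 1) := by
  haveI := charP_monoidAlgebra (G := G) hM
  obtain ⟨k, j, hk, hg, hreg, -⟩ := CfsgLib.BlockReg.exists_regular_power hM.1 g
  refine ⟨k, hreg, fun i => ?_⟩
  set h := g ^ (k - 1) with hh
  have hgk : g ^ k = g * h := by rw [hh, ← pow_succ']; congr 1; omega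
  set a : MonoidAlgebra (ResField M) G := MonoidAlgebra.single g 1
  set b : MonoidAlgebra (ResField M) G := MonoidAlgebra.single h 1
  haveI : ExpChar (MonoidAlgebra (ResField M) G) p := ExpChar.prime hM.1
  have hnil : IsNilpotent (b - 1) := ⟨p ^ j, by
    rw [sub_pow_expChar_pow_of_commute p j (Commute.one_right b), one_pow, MonoidAlgebra.single_pow,
      one_pow, hh, ← pow_mul, hg, MonoidAlgebra.one_def, sub_self]⟩
  have hab : Commute a b := by
    show _ * _ = _ * _
    simp only [a, b, MonoidAlgebra.single_mul_single, hh]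
    rw [← pow_succ', ← pow_succ]
  have h3 := D.tr_nil i _ ((hab.sub_right (Commute.one_right a)).isNilpotent_mul_left hnil)
  rw [mul_sub, mul_one, map_sub, sub_eq_zero] at h3
  rw [← h3, hgk]
  simp only [a, b, MonoidAlgebra.single_mul_single, one_mul]

/-- There are at most as many simple modules as regular classes. -/
theorem n_le_blockRank_univ (hM : IsPModular p M) :
    D.n ≤ Cfsg.blockRank p (Set.univ : Set (IrrCharacter G)) := by
  rw [blockRank_univ]
  set S := {C : ConjClasses G // ∀ g : G, ConjClasses.mk g = C → Cfsg.IsPRegular p g}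
  haveI : Finite (ConjClasses G) := Finite.of_surjective ConjClasses.mk Quotient.mk_surjective
  haveI : Fintype S := Fintype.ofFinite S
  let L : (Fin D.n → ResField M) →ₗ[ResField M] (S → ResField M) :=
    { toFun := fun c C => ∑ i, c i * D.tr i (MonoidAlgebra.single (Quotient.out C.1) 1)
      map_add' := fun c d => funext fun C => by simp [add_mul, Finset.sum_add_distrib]
      map_smul' := fun r c => funext fun C => by simp [Finset.mul_sum, mul_assoc] }
  have hL : Function.Injective L := by
    rw [← LinearMap.ker_eq_bot, LinearMap.ker_eq_bot']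
    intro c hc
    have hall : ∀ g : G, ∑ i, c i * D.tr i (MonoidAlgebra.single g 1) = 0 := by
      intro g
      obtain ⟨k, hk, hk'⟩ := tr_single_pow D hM g
      have hC : ∀ x : G, ConjClasses.mk x = ConjClasses.mk (g ^ k) → Cfsg.IsPRegular p x := fun x hx =>
          (isPRegular_of_isConj (ConjClasses.mk_eq_mk_iff_isConj.mp hx)).mpr hk
      have h := congrFun hc (⟨_, hC⟩ : S)
      simp only [L, LinearMap.coe_mk, AddHom.coe_mk, Pi.zero_apply] at h
      rw [← h]
      refine Finset.sum_congr rfl fun i _ => ?_
      congr 1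
      obtain ⟨x, hx⟩ := isConj_iff.1 (ConjClasses.mk_eq_mk_iff_isConj.1
        (Quotient.out_eq (ConjClasses.mk (g ^ k))).symm)
      have hconj : ∀ y : G, D.tr i (MonoidAlgebra.single (x * y * x⁻¹) 1) =
          D.tr i (MonoidAlgebra.single y 1) := fun y => by
        have e : MonoidAlgebra.single (x * y * x⁻¹) (1 : ResField M) =
            MonoidAlgebra.single x 1 * MonoidAlgebra.single (y * x⁻¹) 1 := by
          rw [MonoidAlgebra.single_mul_single, one_mul, mul_assoc]
        rw [e, D.tr_comm, MonoidAlgebra.single_mul_single, one_mul, inv_mul_cancel_right]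
      rw [← hx, hconj, hk' i]
    funext j
    have h0 : ∀ a : MonoidAlgebra (ResField M) G, ∑ i, c i * D.tr i a = 0 := by
      intro a
      induction a using MonoidAlgebra.induction_linear with
      | zero => simp
      | add x y hx hy => simp [mul_add, Finset.sum_add_distrib, hx, hy]
      | single g r =>
        rw [show MonoidAlgebra.single g r = r • MonoidAlgebra.single g (1 : ResField M) by simp]
        calc ∑ i, c i * D.tr i (r • MonoidAlgebra.single g (1 : ResField M))
            = r * ∑ i, c i * D.tr i (MonoidAlgebra.single g 1) := by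
              rw [Finset.mul_sum]
              exact Finset.sum_congr rfl fun i _ => by rw [map_smul, smul_eq_mul]; ring
          _ = 0 := by rw [hall, mul_zero]
    simpa [D.tr_eps] using h0 (D.eps j)
  have h := LinearMap.finrank_le_finrank_of_injective hL
  rw [Module.finrank_fintype_fun_eq_card, Module.finrank_fintype_fun_eq_card, Fintype.card_fin] at h
  rwa [Nat.card_eq_fintype_card]

/-- The Gram matrix of the regular parts factors through the projective columns, and the factors
are inverse to one another. -/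
theorem exists_dual (hM : IsPModular p M) :
    ∃ A : IrrCharacter G → Fin D.n → ℂ,
      (∀ χ ψ : IrrCharacter G, Cfsg.classInner (Cfsg.pRegularPart p (χ : G → ℂ)) (ψ : G → ℂ) =
        ∑ i, A χ i * (mult ψ (D.eps i) : ℂ)) ∧
      ∀ i j, ∑ χ : IrrCharacter G, (mult χ (D.eps i) : ℂ) * A χ j = if i = j then 1 else 0 := by
  set q : ℂ := ((p ^ (Nat.card G).factorization p : ℕ) : ℂ) with hq
  have hq0 : q ≠ 0 := Nat.cast_ne_zero.2 (pow_ne_zero _ (Fact.out : p.Prime).ne_zero)
  choose z hz using fun χ : IrrCharacter G =>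
    inProj_tilde D hM (IsIrrCharacter.isGeneralizedCharacter χ.2)
  let A : IrrCharacter G → Fin D.n → ℂ := fun χ i => q⁻¹ * (z χ i : ℂ)
  have hP : ∀ χ ψ : IrrCharacter G,
      Cfsg.classInner (Cfsg.pRegularPart p (χ : G → ℂ)) (ψ : G → ℂ) =
        ∑ i, A χ i * (mult ψ (D.eps i) : ℂ) := by
    intro χ ψ
    have he : CfsgLib.BlockReg.tilde p (χ : G → ℂ) = q • Cfsg.pRegularPart p (χ : G → ℂ) := by
      funext x
      by_cases hx : p ∣ orderOf x <;>
        simp [CfsgLib.BlockReg.tilde, pRegularPart_apply, Cfsg.IsPRegular, hx, hq]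
    have h := hz χ ψ
    beta_reduce at h
    rw [he, classInner_smul_left] at h
    simp only [A, mul_assoc, ← Finset.mul_sum]
    rw [← h, ← mul_assoc, inv_mul_cancel₀ hq0, one_mul]
  refine ⟨A, hP, ?_⟩
  ·
    let P : Matrix (IrrCharacter G) (IrrCharacter G) ℂ := Matrix.of fun χ ψ =>
      Cfsg.classInner (Cfsg.pRegularPart p (χ : G → ℂ)) (ψ : G → ℂ)
    let W : Matrix (Fin D.n) (IrrCharacter G) ℂ := Matrix.of fun i χ => (mult χ (D.eps i) : ℂ)
    let A' : Matrix (IrrCharacter G) (Fin D.n) ℂ := Matrix.of A
    have hPA : P = A' * W := by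
      ext χ ψ
      simp [P, A', W, Matrix.mul_apply, hP]
    have hPP : P * P = P := by
      ext χ ω
      simp only [P, Matrix.mul_apply, Matrix.of_apply]
      have hc : ∀ φ : IrrCharacter G,
          Cfsg.IsClassFunction G (Cfsg.pRegularPart p (φ : G → ℂ)) := fun φ =>
        isClassFunction_pRegularPart (IsIrrCharacter.isClassFunction φ.2)
      conv_rhs => rw [classInner_pRegularPart_left, classInner_eq_sum (hc χ) (hc ω)]
      refine Finset.sum_congr rfl fun ψ _ => ?_
      congr 1
      rw [classInner_conj_symm, classInner_pRegularPart_left,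
        ← classInner_conj_symm (Cfsg.pRegularPart p (ω : G → ℂ)),
        ← classInner_pRegularPart_left, classInner_conj_symm]
    have htr : P.trace = (Cfsg.blockRank p (Set.univ : Set (IrrCharacter G)) : ℂ) := by
      rw [cast_blockRank_eq _ regClosed_univ, Matrix.trace]
      exact (Fintype.sum_equiv (Equiv.Set.univ (IrrCharacter G)) _
        (fun χ => P χ χ) fun χ => rfl).symm
    set S := A'.mulVecLin with hS
    set T := W.mulVecLin with hT
    have hST : S.comp T = P.mulVecLin := by rw [hPA, Matrix.mulVecLin_mul]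
    have hidem : IsIdempotentElem (P.mulVecLin) := by
      show P.mulVecLin * P.mulVecLin = _
      rw [Module.End.mul_eq_comp, ← Matrix.mulVecLin_mul, hPP]
    have hrank : D.n ≤ Module.finrank ℂ (LinearMap.range (S.comp T)) := by
      rw [hST]
      have h := (LinearMap.IsIdempotentElem.isProj_range _ hidem).trace
      rw [← Matrix.toLin'_apply', Matrix.trace_toLin'_eq, htr] at h
      have := n_le_blockRank_univ D hM
      rw [Nat.cast_inj] at h
      rw [← Matrix.toLin'_apply']
      omega
    have hn : Module.finrank ℂ (Fin D.n → ℂ) = D.n := Module.finrank_fin_fun ℂ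
    have hSinj : Function.Injective S := by
      rw [← LinearMap.ker_eq_bot]
      refine Submodule.finrank_eq_zero.1 ?_
      have h1 := LinearMap.finrank_range_add_finrank_ker S
      have h2 := Submodule.finrank_mono (LinearMap.range_comp_le_range T S)
      omega
    have hTsurj : Function.Surjective T := by
      rw [← LinearMap.range_eq_top]
      refine Submodule.eq_top_of_finrank_eq ?_
      have h1 : Module.finrank ℂ (LinearMap.range (S.comp T)) ≤
          Module.finrank ℂ (LinearMap.range T) := by
        rw [LinearMap.range_comp]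
        exact Submodule.finrank_map_le S _
      have h2 := Submodule.finrank_le (LinearMap.range T)
      omega
    have hTS : W * A' = 1 := by
      refine Matrix.toLin'.injective (LinearMap.ext fun v => ?_)
      obtain ⟨w, rfl⟩ := hTsurj v
      refine hSinj ?_
      have := LinearMap.congr_fun hidem.eq w
      rw [← hST] at this
      simp only [Module.End.mul_apply, LinearMap.comp_apply] at this
      rw [Matrix.toLin'_apply', Matrix.mulVecLin_mul, Matrix.toLin'_one]
      exact this
    intro i j
    have h := congrArg (fun X : Matrix (Fin D.n) (Fin D.n) ℂ => X i j) hTS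
    simpa [W, A', A, Matrix.mul_apply, Matrix.one_apply] using h

/-- An automorphism acting on the group ring. -/
noncomputable def autA (R : Type) [CommRing R] (a : G ≃* G) :
    MonoidAlgebra R G →+* MonoidAlgebra R G :=
  MonoidAlgebra.mapDomainRingHom R a.toMonoidHom

/-- The twisted trace of a union of blocks on the regular elements is a natural number. -/
theorem exists_nat_twisted (hM : IsPModular p M) (a : G ≃* G) (U : Finset (IrrCharacter G))
    (hU : ∀ φ ∈ U, ∀ ψ ∈ Cfsg.blockOf M (φ : G → ℂ), ψ ∈ U) :
    ∃ m : ℕ, ∑ φ ∈ U, ∑ s ∈ regSet p, (φ : G → ℂ) (a s) * conj ((φ : G → ℂ) s) =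
      (Nat.card G : ℂ) * m := by
  haveI := isAlgClosed_resField (M := M)
  haveI : FiniteDimensional (ResField M) (MonoidAlgebra (ResField M) G) :=
    Module.Finite.of_basis (MonoidAlgebra.basis G (ResField M))
  obtain ⟨D⟩ := exists_idemData (ResField M) (MonoidAlgebra (ResField M) G)
  obtain ⟨A, hA, hAW⟩ := exists_dual D hM
  let σ : IrrCharacter G → IrrCharacter G := fun φ =>
    ⟨_, IsIrrCharacter.comp_mulEquiv φ.2 a⟩
  let τ : IrrCharacter G → IrrCharacter G := fun φ =>
    ⟨_, IsIrrCharacter.comp_mulEquiv φ.2 a.symm⟩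
  have hσ : ∀ (φ : IrrCharacter G) g, (σ φ : G → ℂ) g = (φ : G → ℂ) (a g) := fun φ g => rfl
  have hτ : ∀ (φ : IrrCharacter G) g, (τ φ : G → ℂ) g = (φ : G → ℂ) (a.symm g) := fun φ g => rfl
  -- the columns of the union
  let IU := Finset.univ.filter fun i => ∃ φ ∈ U, mult φ (D.eps i) ≠ 0
  have hout : ∀ i ∈ IU, ∀ ψ : IrrCharacter G, ψ ∉ U → mult ψ (D.eps i) = 0 := by
    intro i hi ψ hψ
    obtain ⟨φ, hφ, hne⟩ := (Finset.mem_filter.1 hi).2
    have hB : IsPBlock M (Cfsg.blockOf M (φ : G → ℂ)) := isPBlock_blockOf φ
    have hc : ∀ x, x * (blockIdem hB : MonoidAlgebra (ResField M) G) =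
        (blockIdem hB : MonoidAlgebra (ResField M) G) * x :=
      Subalgebra.mem_center_iff.1 (blockIdem hB).2
    rcases D.central _ (congrArg Subtype.val (isIdempotentElem_blockIdem hB).eq) hc i with h | h
    · exact mult_eq_zero_of_not_mem hB (D.eps_idem i) h.1 fun hψ' => hψ (hU φ hφ ψ hψ')
    · exact absurd (mult_eq_zero_of_mul_eq_zero hB (D.eps_idem i) h.1 (mem_blockOf_self φ)) hne
  -- twisting the columns
  have hid : ∀ i, IsIdempotentElem (autA (ResField M) a.symm (D.eps i)) := fun i =>
    (D.eps_idem i).map _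
  choose r hr using fun i => D.decomp _ (hid i)
  have hw : ∀ i (ψ : IrrCharacter G),
      (mult (τ ψ) (D.eps i) : ℂ) = ∑ j, (r i j : ℂ) * (mult ψ (D.eps j) : ℂ) := by
    intro i ψ
    obtain ⟨E, hE, hEr⟩ := exists_idem_lift (D.eps_idem i)
    have hred : redA M G (autA (locRing M) a.symm E) = autA (ResField M) a.symm (D.eps i) := by
      rw [← hEr]
      refine MonoidAlgebra.ext (Finsupp.ext fun g => ?_)
      obtain ⟨g, rfl⟩ := a.symm.surjective g
      simp [autA, coeff_redA, Finsupp.mapDomain_apply a.symm.injective]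
    have h1 : mult (τ ψ) (D.eps i) = mult ψ (autA (ResField M) a.symm (D.eps i)) := by
      have h : ((mult (τ ψ) (D.eps i) : ℤ) : ℂ) =
          ((mult ψ (autA (ResField M) a.symm (D.eps i)) : ℤ) : ℂ) := by
        rw [mult_spec _ hE hEr, mult_spec ψ (hE.map _) hred]
        simp only [chR]
        refine Fintype.sum_equiv a.symm.toEquiv _ _ fun g => ?_
        simp [autA, hτ, Finsupp.mapDomain_apply a.symm.injective]
      exact_mod_cast h
    rw [h1, hr i (mult ψ) (isIdemFun_mult ψ)]
    push_cast
    rfl
  refine ⟨∑ i ∈ IU, r i i, ?_⟩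
  have hterm : ∀ φ : IrrCharacter G, ∑ s ∈ regSet p, (φ : G → ℂ) (a s) * conj ((φ : G → ℂ) s) =
      (Nat.card G : ℂ) * ∑ i, A (σ φ) i * (mult φ (D.eps i) : ℂ) := by
    intro φ
    rw [← hA, Cfsg.classInner, ← mul_assoc,
      mul_inv_cancel₀ (Nat.cast_ne_zero.mpr Nat.card_pos.ne'), one_mul, regSet, Finset.sum_filter]
    refine Finset.sum_congr rfl fun s _ => ?_
    rw [pRegularPart_apply, hσ]
    split_ifs <;> simp
  rw [Finset.sum_congr rfl fun φ _ => hterm φ, ← Finset.mul_sum]
  congr 1
  calc ∑ φ ∈ U, ∑ i, A (σ φ) i * (mult φ (D.eps i) : ℂ)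
      = ∑ i ∈ IU, ∑ φ : IrrCharacter G, A (σ φ) i * (mult φ (D.eps i) : ℂ) := by
        rw [Finset.sum_comm, ← Finset.sum_subset (Finset.subset_univ IU)]
        · refine Finset.sum_congr rfl fun i hi => ?_
          refine Finset.sum_subset (Finset.subset_univ U) fun φ _ hφ => ?_
          rw [hout i hi φ hφ, Int.cast_zero, mul_zero]
        · intro i _ hi
          refine Finset.sum_eq_zero fun φ hφ => ?_
          have : mult φ (D.eps i) = 0 := by
            by_contra h
            exact hi (Finset.mem_filter.2 ⟨Finset.mem_univ _, φ, hφ, h⟩)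
          rw [this, Int.cast_zero, mul_zero]
    _ = ∑ i ∈ IU, ∑ ψ : IrrCharacter G, A ψ i * (mult (τ ψ) (D.eps i) : ℂ) := by
        refine Finset.sum_congr rfl fun i _ => ?_
        refine Fintype.sum_equiv
          { toFun := σ, invFun := τ
            left_inv := fun φ => Subtype.ext (funext fun g => by rw [hτ, hσ, a.apply_symm_apply])
            right_inv := fun φ => Subtype.ext (funext fun g => by rw [hσ, hτ, a.symm_apply_apply]) }
          _ _ fun φ => ?_
        have : τ (σ φ) = φ := Subtype.ext (funext fun g => by rw [hτ, hσ, a.apply_symm_apply])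
        simp only [Equiv.coe_fn_mk, this]
    _ = ((∑ i ∈ IU, r i i : ℕ) : ℂ) := by
        rw [Nat.cast_sum]
        refine Finset.sum_congr rfl fun i _ => ?_
        calc ∑ ψ : IrrCharacter G, A ψ i * (mult (τ ψ) (D.eps i) : ℂ)
            = ∑ j, (r i j : ℂ) * ∑ ψ : IrrCharacter G, (mult ψ (D.eps j) : ℂ) * A ψ i := by
              simp only [hw, Finset.mul_sum]
              rw [Finset.sum_comm]
              exact Finset.sum_congr rfl fun j _ => Finset.sum_congr rfl fun ψ _ => by ring
          _ = (r i i : ℂ) := by simp [hAW]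

end CfsgLib.PRational
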